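import Groth.Agent.Redsub.H649.QuotCrit

/-!
# Local conjugacy in the form of `RedSub.ConjEq` and the condition `LocConj`
-/

set_option autoImplicit false
universe u
open CategoryTheory MonoidalCategory CartesianMonoidalCategory MonObj GrpObj AlgebraicGeometry Limits

namespace Groth.Agent.Redsub.H649.ConjLoc

open Groth.Agent.Sga3B Groth.Agent.Sga3B.BcPts Groth.Agent.Sga3B.MT
open Groth.Agent.Redsub.H649.ConjPts Groth.Agent.Redsub.H649.QuotCrit

variable {S S' : Scheme.{u}}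

section basic

variable {G A B : Over S} [GrpObj G]

/-- `RedSub.ConjEq` as an equality of point predicates. -/
lemma conjEq_iff (i : A ⟶ G) (i' : B ⟶ G) {X : Over S} (g : X ⟶ G) :
    RedSub.ConjEq i i' g ↔ ∀ (X' : Over S) (x : X' ⟶ X) (γ : X' ⟶ G),
      InC i (x ≫ g) γ ↔ ∃ p : X' ⟶ B, p ≫ i' = γ := by
  constructor
  · intro h X' x γ
    obtain ⟨h1, h2⟩ := h X' x
    constructor
    · rintro ⟨t, ht⟩
      obtain ⟨t', ht'⟩ := h1 t
      refine ⟨t', ?_⟩
      rw [← ht', ht]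
      group
    · rintro ⟨p, rfl⟩
      obtain ⟨t, ht⟩ := h2 p
      exact ⟨t, ht.symm⟩
  · intro h X' x
    constructor
    · intro t
      obtain ⟨p, hp⟩ := (h X' x ((x ≫ g) * (t ≫ i) * (x ≫ g)⁻¹)).1 ⟨t, by group⟩
      exact ⟨p, hp.symm⟩
    · intro p
      obtain ⟨t, ht⟩ := (h X' x (p ≫ i')).2 ⟨p, rfl⟩
      exact ⟨t, ht.symm⟩

/-- `RedSub.ConjEq` and isomorphisms of the parameter scheme / base change of the parameter. -/
lemma conjEq_comp {i : A ⟶ G} {i' : B ⟶ G} {X Y : Over S} {g : X ⟶ G} (h : RedSub.ConjEq i i' g) (y : Y ⟶ X) :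
    RedSub.ConjEq i i' (y ≫ g) := by
  intro X' x
  have := h X' (x ≫ y)
  simpa only [Category.assoc] using this

end basic

section bc

variable (f : S' ⟶ S) {G A B : Over S} [GrpObj G] (a : A ⟶ G) (b : B ⟶ G)

lemma inC_bc_iff {Y : Over S'} (g γ : (Over.map f).obj Y ⟶ G) :
    InC ((Over.pullback f).map a) (bcEquiv f Y G g) (bcEquiv f Y G γ) ↔ InC a g γ := by
  have h0 : (bcEquiv f Y G g)⁻¹ * bcEquiv f Y G γ * bcEquiv f Y G g = bcEquiv f Y G (g⁻¹ * γ * g) := by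
    change (bcMulEquiv f Y G g)⁻¹ * bcMulEquiv f Y G γ * bcMulEquiv f Y G g = bcMulEquiv f Y G (g⁻¹ * γ * g)
    rw [map_mul, map_mul, map_inv]
  constructor
  · rintro ⟨x, hx⟩
    refine ⟨(bcEquiv f Y A).symm x, ?_⟩
    rw [← bcEquiv_symm_comp, hx, h0, Equiv.symm_apply_apply]
  · rintro ⟨x, hx⟩
    refine ⟨bcEquiv f Y A x, ?_⟩
    rw [← bcEquiv_comp, hx, h0]

omit [GrpObj G] in
lemma exists_bc_iff {Y : Over S'} (γ : (Over.map f).obj Y ⟶ G) :
    (∃ p : Y ⟶ Red.bc f B, p ≫ (Over.pullback f).map b = bcEquiv f Y G γ) ↔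
      ∃ p : (Over.map f).obj Y ⟶ B, p ≫ b = γ := by
  constructor
  · rintro ⟨x, hx⟩
    refine ⟨(bcEquiv f Y B).symm x, ?_⟩
    rw [← bcEquiv_symm_comp, hx, Equiv.symm_apply_apply]
  · rintro ⟨x, rfl⟩
    exact ⟨bcEquiv f Y B x, (bcEquiv_comp f x b).symm⟩

/-- `RedSub.ConjEq` for base changed subgroups. -/
lemma conjEq_bc_iff {X' : Over S'} (x' : X' ⟶ Red.bc f G) :
    RedSub.ConjEq ((Over.pullback f).map a) ((Over.pullback f).map b) x' ↔
      RedSub.ConjEq a b ((bcEquiv f X' G).symm x') := by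
  rw [conjEq_iff, conjEq_iff]
  constructor
  · intro h Y y γ
    let Y' : Over S' := Over.mk (y.left ≫ X'.hom)
    let ε : (Over.map f).obj Y' ≅ Y := Over.isoMk (Iso.refl _) (by
      have := Over.w y
      simp only [Over.map_obj_hom] at this
      simp [Y', this])
    let y' : Y' ⟶ X' := Over.homMk y.left
    have h1 : (Over.map f).map y' = ε.hom ≫ y := by
      ext1
      exact (Category.id_comp _).symm
    have h3 := h Y' y' (bcEquiv f Y' G (ε.hom ≫ γ))
    have h4 : y' ≫ x' = bcEquiv f Y' G (ε.hom ≫ y ≫ (bcEquiv f X' G).symm x') := by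
      rw [← Category.assoc, ← h1, ← comp_bcEquiv_symm, Equiv.apply_symm_apply]
    rw [h4, inC_bc_iff, exists_bc_iff] at h3
    constructor
    · rintro ⟨t, ht⟩
      obtain ⟨p, hp⟩ := h3.1 ⟨ε.hom ≫ t, by
        rw [Category.assoc, ht]
        simp only [MonObj.comp_mul, GrpObj.comp_inv]⟩
      refine ⟨ε.inv ≫ p, ?_⟩
      rw [Category.assoc, hp, Iso.inv_hom_id_assoc]
    · rintro ⟨p, hp⟩
      obtain ⟨t, ht⟩ := h3.2 ⟨ε.hom ≫ p, by rw [Category.assoc, hp]⟩
      refine ⟨ε.inv ≫ t, ?_⟩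
      rw [Category.assoc, ht]
      simp only [MonObj.comp_mul, GrpObj.comp_inv, Iso.inv_hom_id_assoc]
  · intro h Y' y' γ
    obtain ⟨γ, rfl⟩ := (bcEquiv f Y' G).surjective γ
    have h3 := h _ ((Over.map f).map y') γ
    have h4 : y' ≫ x' = bcEquiv f Y' G ((Over.map f).map y' ≫ (bcEquiv f X' G).symm x') := by
      rw [← comp_bcEquiv_symm, Equiv.apply_symm_apply]
    rw [h4, inC_bc_iff, exists_bc_iff]
    exact h3

end bc

section loc

variable {G B : Over S} [GrpObj G] {i : B ⟶ G} {M : Over S} {H : Over M.left} {h : H ⟶ Red.bc M.hom G}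

/-- If `h` and the constant family `i` are conjugate over `V ⟶ M` then `V ⟶ M` classifies a family of conjugates. -/
theorem samePoints_of_conjEq {V : Scheme.{u}} (π : V ⟶ M.left) (g : Over.mk π ⟶ Red.bc M.hom G)
    (hg : RedSub.ConjEq ((Over.pullback M.hom).map i) h g) :
    RedSub.SamePoints G (π ≫ M.hom)
      (fam i (show Over.mk (π ≫ M.hom) ⟶ G from (bcEquiv M.hom (Over.mk π) G).symm g)) M h π := by
  refine samePoints_of_iff _ π rfl fun X a γ => ?_
  let g₀ : Over.mk (π ≫ M.hom) ⟶ G := (bcEquiv M.hom (Over.mk π) G).symm g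
  change InC i (a ≫ g₀) γ ↔ _
  let a' : X ⟶ Over.mk M.hom := Over.homMk (a.left ≫ π) (by
    rw [Category.assoc]
    exact Over.w a)
  let y : Over.mk a'.left ⟶ Over.mk π := Over.homMk a.left
  have h1 : y ≫ g = bcPt a' (a ≫ g₀) := by
    have e1 : (overIso a').hom ≫ a = (Over.map M.hom).map y := by
      ext1
      exact Category.id_comp _
    rw [bcPt, ← Category.assoc, e1, ← Equiv.symm_apply_eq, comp_bcEquiv_symm]
  have h2 : Pt h (a.left ≫ π) γ.left ↔ MemAt h a' γ := (memAt_iff_pt h a' γ).symm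
  rw [h2, memAt_iff, ← (conjEq_iff _ _ _).1 hg _ y (bcPt a' γ), h1]
  constructor
  · rintro ⟨x, hx⟩
    have h3 : MemAt ((Over.pullback M.hom).map i) a' ((a ≫ g₀)⁻¹ * γ * (a ≫ g₀)) := (memAt_map i a' _).2 ⟨x, hx⟩
    obtain ⟨z, hz⟩ := (memAt_iff _ _ _).1 h3
    refine ⟨z, ?_⟩
    rw [hz, bcPt_mul, bcPt_mul, bcPt_inv]
  · rintro ⟨z, hz⟩
    rw [← bcPt_inv, ← bcPt_mul, ← bcPt_mul] at hz
    have h3 : MemAt ((Over.pullback M.hom).map i) a' ((a ≫ g₀)⁻¹ * γ * (a ≫ g₀)) := (memAt_iff _ _ _).2 ⟨z, hz⟩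
    exact (memAt_map i a' _).1 h3

/-- The form in which local conjugacy is stated: after base change to `V`. -/
theorem locConj_of_conjEq
    (hc : ∀ m : M.left, ∃ (V : Scheme.{u}) (π : V ⟶ M.left), Flat π ∧ LocallyOfFinitePresentation π ∧
      m ∈ Set.range π ∧ ∃ g : 𝟙_ (Over V) ⟶ Red.bc π (Red.bc M.hom G),
        RedSub.ConjEq ((Over.pullback π).map ((Over.pullback M.hom).map i)) ((Over.pullback π).map h) g) :
    LocConj i M h := by
  intro m
  obtain ⟨V, π, h1, h2, h3, g, hg⟩ := hc m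
  rw [conjEq_bc_iff] at hg
  let ε : Over.mk π ⟶ (Over.map π).obj (𝟙_ (Over V)) := Over.homMk (𝟙 _) (by
    change 𝟙 _ ≫ 𝟙 _ ≫ π = π
    rw [Category.id_comp, Category.id_comp])
  exact ⟨V, π, h1, h2, h3, _, samePoints_of_conjEq π (ε ≫ (bcEquiv π (𝟙_ (Over V)) _).symm g) (conjEq_comp hg ε)⟩

/-- Local conjugacy over a flat covering of `M`, with a point of `G_M`. -/
theorem locConj_of_conjEq'
    (hc : ∀ m : M.left, ∃ (V : Scheme.{u}) (π : V ⟶ M.left), Flat π ∧ LocallyOfFinitePresentation π ∧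
      m ∈ Set.range π ∧ ∃ g : Over.mk π ⟶ Red.bc M.hom G,
        RedSub.ConjEq ((Over.pullback M.hom).map i) h g) :
    LocConj i M h := by
  intro m
  obtain ⟨V, π, h1, h2, h3, g, hg⟩ := hc m
  exact ⟨V, π, h1, h2, h3, _, samePoints_of_conjEq π g hg⟩

end loc

end Groth.Agent.Redsub.H649.ConjLoc
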