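import Groth.Agent.Redsub.H649.ConjLoc
import Groth.Agent.Sga3B.TorConj
import Groth.Agent.Sga3B.MaxTorBc636
import Groth.Agent.Sga3B.TorusEtSplit
import Groth.Agent.Sga3B.RedBcAny636

/-!
# Maximal tori of a reductive group scheme are conjugate locally for the smooth topology
-/

set_option autoImplicit false
universe u
open CategoryTheory MonoidalCategory CartesianMonoidalCategory MonObj GrpObj AlgebraicGeometry Limits

namespace Groth.Agent.Redsub.H649.TorConjLoc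

open Groth.Agent.Sga3B Groth.Agent.Sga3B.BcPts Groth.Agent.Sga3B.RedIso
open Groth.Agent.Redsub.H649.ConjPts Groth.Agent.Redsub.H649.QuotCrit Groth.Agent.Redsub.H649.ConjLoc

variable {S : Scheme.{u}}

lemma isSplit_comp {S' S'' : Scheme.{u}} (f : S' ⟶ S) (β : S'' ⟶ S') {M : Type} [AddCommGroup M]
    {Q : Over S} [GrpObj Q] (h : Red.IsSplitTorusWith M (Red.bc f Q)) :
    Red.IsSplitTorusWith M (Red.bc (β ≫ f) Q) := by
  obtain ⟨e⟩ := TorusAlgClosed.isSplitTorusWith_bc β h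
  exact ⟨BcIso.bcCompIso β f Q ≪≫ e⟩

lemma isMaximalTorus_inv_comp {T T' G : Over S} [GrpObj T] [GrpObj T'] [GrpObj G]
    (e : Grp.mk T ≅ Grp.mk T') {i : T ⟶ G} (h : Red.IsMaximalTorus i) :
    Red.IsMaximalTorus ((und e).inv ≫ i) :=
  AlgBc.isMaximalTorus_of_arrow e (Iso.refl _) (by
    change i ≫ 𝟙 _ = (und e).hom ≫ (und e).inv ≫ i
    rw [Iso.hom_inv_id_assoc, Category.comp_id]) h

/-- If `int(g)` carries the parametrised torus `a` into `b` then the subgroups are conjugate. -/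
lemma conjEq_of_transp {G T T' : Over S} [GrpObj G] {M M' : Type} [AddCommGroup M] [AddCommGroup M']
    (e : T ≅ Red.DS S M) (e' : T' ≅ Red.DS S M') (i : T ⟶ G) (i' : T' ⟶ G) (h : M' ≃+ M) {V : Over S}
    (g : V ⟶ G) (hg : TorTransp.Transp (e.inv ≫ i) (Red.DSmap S h.toAddMonoidHom ≫ e'.inv ≫ i') g) :
    RedSub.ConjEq i i' g := by
  intro Y y
  constructor
  · intro t
    refine ⟨t ≫ e.hom ≫ Red.DSmap S h.toAddMonoidHom ≫ e'.inv, ?_⟩
    have h1 := hg Y y (t ≫ e.hom)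
    simp only [Category.assoc, Iso.hom_inv_id_assoc] at h1 ⊢
    exact h1
  · intro t'
    have h2 : Red.DSmap S h.symm.toAddMonoidHom ≫ Red.DSmap S h.toAddMonoidHom = 𝟙 _ :=
      (Trans894.DSiso₀ S h).inv_hom_id
    refine ⟨t' ≫ e'.hom ≫ Red.DSmap S h.symm.toAddMonoidHom ≫ e.inv, ?_⟩
    have h1 := hg Y y (t' ≫ e'.hom ≫ Red.DSmap S h.symm.toAddMonoidHom)
    have h3 : (t' ≫ e'.hom ≫ Red.DSmap S h.symm.toAddMonoidHom) ≫ Red.DSmap S h.toAddMonoidHom ≫
        e'.inv ≫ i' = t' ≫ i' := by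
      simp only [Category.assoc]
      rw [reassoc_of% h2, Iso.hom_inv_id_assoc]
    rw [h3] at h1
    rw [← h1]
    simp only [Category.assoc]
    group

/-- **Maximal tori of a reductive group scheme are conjugate locally for the smooth topology.** -/
theorem exists_conjEq {G T T' : Over S} [GrpObj G] [GrpObj T] [GrpObj T'] (hG : Red.IsReductive G)
    (i : T ⟶ G) (i' : T' ⟶ G) (hi : Red.IsMaximalTorus i) (hi' : Red.IsMaximalTorus i') (s : S) :
    ∃ (V : Scheme.{u}) (π : V ⟶ S), Smooth π ∧ s ∈ Set.range π ∧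
      ∃ g : Over.mk π ⟶ G, RedSub.ConjEq i i' g := by
  obtain ⟨B₁, _, v₁, r₁, hv₁, ⟨x₁, hx₁⟩, hr₁⟩ := TorusEtSplit.exists_etale_split T hi.2.2.1 s
  obtain ⟨B₂, _, v₂, r₂, hv₂, ⟨x₂, hx₂⟩, hr₂⟩ := TorusEtSplit.exists_etale_split T' hi'.2.2.1 s
  obtain ⟨w, hw1, hw2⟩ := Scheme.Pullback.exists_preimage_pullback (f := v₁) (g := v₂) x₁ x₂
    (hx₁.trans hx₂.symm)
  let W : Scheme.{u} := pullback v₁ v₂
  let ρ : W ⟶ S := pullback.fst v₁ v₂ ≫ v₁
  have hρ : ρ = pullback.snd v₁ v₂ ≫ v₂ := pullback.condition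
  have hρe : Smooth ρ := inferInstance
  obtain ⟨e₁⟩ : Red.IsSplitTorusWith (Fin r₁ → ℤ) (Red.bc ρ T) := isSplit_comp v₁ _ hr₁
  obtain ⟨e₂⟩ : Red.IsSplitTorusWith (Fin r₂ → ℤ) (Red.bc ρ T') := by
    rw [hρ]
    exact isSplit_comp v₂ _ hr₂
  have hGW : Red.IsReductive (Red.bc ρ G) := RedBcAny636.isReductive_bc ρ hG
  have ha := isMaximalTorus_inv_comp e₁ (MaxTorBc636.isMaximalTorus_bc ρ hG hi)
  have hb := isMaximalTorus_inv_comp e₂ (MaxTorBc636.isMaximalTorus_bc ρ hG hi')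
  obtain ⟨V, hV, ⟨v, hv⟩, g, θ, hg⟩ := TorConj.exists_smooth_conj hGW _ _ ha hb w
  have h1 := conjEq_of_transp (und e₁) (und e₂) ((Over.pullback ρ).map i) ((Over.pullback ρ).map i') θ g hg
  rw [conjEq_bc_iff] at h1
  refine ⟨V.left, V.hom ≫ ρ, inferInstance, ⟨v, ?_⟩, (bcEquiv ρ V G).symm g, h1⟩
  rw [Scheme.Hom.comp_apply, hv]
  change (pullback.fst v₁ v₂ ≫ v₁) w = s
  rw [Scheme.Hom.comp_apply, hw1]
  exact hx₁

/-- The scheme of maximal tori classifies conjugates. -/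
theorem classifies_of_representsTor {G T : Over S} [GrpObj G] [GrpObj T] (hG : Red.IsReductive G)
    (i : T ⟶ G) (hi : Red.IsMaximalTorus i) (M : Over S) (H : Over M.left) [GrpObj H]
    (h : H ⟶ Red.bc M.hom G) (hM : RedSub.RepresentsTor G M H h) : Classifies i M h := by
  intro S' f g₀
  exact hM.2 S' f (Red.bc f T) (fam i g₀)
    (MT.isMaximalTorus_comp_cj g₀ _ (MaxTorBc636.isMaximalTorus_bc f hG hi))

/-- The universal maximal torus is locally conjugate to any given one. -/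
theorem locConj_of_representsTor {G T : Over S} [GrpObj G] [GrpObj T] (hG : Red.IsReductive G)
    (i : T ⟶ G) (hi : Red.IsMaximalTorus i) (M : Over S) (H : Over M.left) [GrpObj H]
    (h : H ⟶ Red.bc M.hom G) (hM : RedSub.RepresentsTor G M H h) : LocConj i M h := by
  refine locConj_of_conjEq' fun m => ?_
  obtain ⟨V, π, h1, h2, h3⟩ := exists_conjEq (RedBcAny636.isReductive_bc M.hom hG) _ h
    (MaxTorBc636.isMaximalTorus_bc M.hom hG hi) hM.1 m
  exact ⟨V, π, inferInstance, inferInstance, h2, h3⟩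

end Groth.Agent.Redsub.H649.TorConjLoc
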