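import Groth.Prelude.Def_RedSub
import Groth.Agent.Sga3B.MT.MemOps

/-!
# Points of families of conjugates of a subgroup

`i : B ⟶ G`, `f : S' ⟶ S` and a point `g₀` of `G` with values in `S'`: the family `fam i g₀ : bc f B ⟶ bc f G`,
`b ↦ g₀ i(b) g₀⁻¹`, its points, and the comparison with `RedSub.conjFamily`.
-/

set_option autoImplicit false
universe u
open CategoryTheory MonoidalCategory CartesianMonoidalCategory MonObj GrpObj AlgebraicGeometry Limits

namespace Groth.Agent.Redsub.H649.ConjPts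

open Groth.Agent.Sga3B Groth.Agent.Sga3B.BcPts Groth.Agent.Sga3B.MT

variable {S S' : Scheme.{u}} {f : S' ⟶ S} {G B : Over S} [GrpObj G]

/-- the family of subschemes `int(g₀) B` of `bc f G` -/
noncomputable def fam (i : B ⟶ G) (g₀ : Over.mk f ⟶ G) : Red.bc f B ⟶ Red.bc f G :=
  (Over.pullback f).map i ≫ cj g₀

omit [GrpObj G] in
/-- `X`-points of `h` as in `RedSub.SamePoints` -/
def Pt {H : Over S'} (h : H ⟶ Red.bc f G) {X : Scheme.{u}} (y : X ⟶ S') (γ : X ⟶ G.left) : Prop :=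
  ∃ p : X ⟶ H.left, p ≫ H.hom = y ∧ p ≫ h.left ≫ Limits.pullback.fst G.hom f = γ

omit [GrpObj G] in
lemma Pt.w {H : Over S'} {h : H ⟶ Red.bc f G} {X : Scheme.{u}} {y : X ⟶ S'} {γ : X ⟶ G.left}
    (H₁ : Pt h y γ) : γ ≫ G.hom = y ≫ f := by
  obtain ⟨p, rfl, rfl⟩ := H₁
  have h1 : h.left ≫ pullback.snd G.hom f = H.hom := Over.w h
  rw [Category.assoc, Category.assoc, pullback.condition, ← h1, Category.assoc, Category.assoc]

omit [GrpObj G] in
lemma samePoints_iff {H' : Over S'} (h' : H' ⟶ Red.bc f G) (M : Over S) {H : Over M.left}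
    (h : H ⟶ Red.bc M.hom G) (g : S' ⟶ M.left) :
    RedSub.SamePoints G f h' M h g ↔
      ∀ (X : Scheme.{u}) (y : X ⟶ S') (γ : X ⟶ G.left), Pt h' y γ ↔ Pt h (y ≫ g) γ := Iff.rfl

omit [GrpObj G] in
lemma memAt_iff_pt {H : Over S'} (h : H ⟶ Red.bc f G) {X : Over S} (a : X ⟶ Over.mk f) (g : X ⟶ G) :
    MemAt h a g ↔ Pt h a.left g.left := memAt_iff' h a g

omit [GrpObj G] in
lemma memAt_map (i : B ⟶ G) {X : Over S} (a : X ⟶ Over.mk f) (g : X ⟶ G) :
    MemAt ((Over.pullback f).map i) a g ↔ ∃ x : X ⟶ B, x ≫ i = g := by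
  rw [memAt_iff, bcPt]
  constructor
  · rintro ⟨x, hx⟩
    refine ⟨(overIso a).inv ≫ (bcEquiv f _ B).symm x, ?_⟩
    rw [Category.assoc, ← bcEquiv_symm_comp, hx, Equiv.symm_apply_apply, Iso.inv_hom_id_assoc]
  · rintro ⟨x, rfl⟩
    refine ⟨bcEquiv f _ B ((overIso a).hom ≫ x), ?_⟩
    rw [← bcEquiv_comp, Category.assoc]

/-- `γ` is a point of `int(a) B`. -/
def InC (i : B ⟶ G) {X : Over S} (a γ : X ⟶ G) : Prop := ∃ x : X ⟶ B, x ≫ i = a⁻¹ * γ * a

lemma memAt_fam (i : B ⟶ G) (g₀ : Over.mk f ⟶ G) {X : Over S} (a : X ⟶ Over.mk f) (γ : X ⟶ G) :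
    MemAt (fam i g₀) a γ ↔ InC i (a ≫ g₀) γ := by
  rw [fam, memAt_comp_cj, memAt_map, InC]

/-- Points of the family `fam i g₀`. -/
lemma pt_fam_iff (i : B ⟶ G) (g₀ : Over.mk f ⟶ G) {X : Over S} (a : X ⟶ Over.mk f) (γ : X ⟶ G) :
    Pt (fam i g₀) a.left γ.left ↔ InC i (a ≫ g₀) γ := by
  rw [← memAt_iff_pt, memAt_fam]

/-- the tautological point of `G` -/
noncomputable def taut (G : Over S) : Over.mk G.hom ⟶ G := Over.homMk (𝟙 _) (Category.id_comp _)

omit [GrpObj G] in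
lemma comp_taut_left {X : Over S} (a : X ⟶ Over.mk G.hom) : (a ≫ taut G).left = a.left :=
  Category.comp_id _

lemma memAt_conjFamily (i : B ⟶ G) {X : Over S} (a : X ⟶ Over.mk G.hom) (γ : X ⟶ G) :
    MemAt (RedSub.conjFamily i) a γ ↔ InC i (a ≫ taut G) γ := by
  rw [memAt_iff']
  have h0 : (RedSub.conjFamily i).left ≫ pullback.fst G.hom G.hom = (RedSub.conjMap i).left :=
    pullback.lift_fst _ _ _
  rw [h0]
  constructor
  · rintro ⟨x, h1, h2⟩
    have hX : x ≫ (G ⊗ B).hom = X.hom := by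
      have h3 : (fst G B).left ≫ G.hom = (G ⊗ B).hom := Over.w (fst G B)
      have h4 : x ≫ (fst G B).left = a.left := h1
      rw [← h3, ← Category.assoc, h4]
      exact Over.w a
    let x' : X ⟶ G ⊗ B := Over.homMk x hX
    have e1 : x' ≫ fst G B = a ≫ taut G := by
      ext1
      rw [comp_taut_left]
      exact h1
    have e2 : x' ≫ RedSub.conjMap i = γ := by
      ext1
      exact h2
    refine ⟨x' ≫ snd G B, ?_⟩
    rw [← e1, ← e2, RedSub.conjMap, MonObj.comp_mul, MonObj.comp_mul, GrpObj.comp_inv, Category.assoc]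
    group
  · rintro ⟨x, hx⟩
    refine ⟨(lift (a ≫ taut G) x).left, ?_, ?_⟩
    · change (lift (a ≫ taut G) x).left ≫ (fst G B).left = a.left
      rw [← Over.comp_left, lift_fst, comp_taut_left]
    · rw [← Over.comp_left, RedSub.conjMap, MonObj.comp_mul, MonObj.comp_mul, GrpObj.comp_inv,
        ← Category.assoc _ (snd G B) i, lift_fst, lift_snd, hx]
      congr 1
      group

lemma pt_conjFamily_iff (i : B ⟶ G) {X : Over S} (a γ : X ⟶ G) :
    Pt (RedSub.conjFamily i) a.left γ.left ↔ InC i a γ := by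
  let a' : X ⟶ Over.mk G.hom := Over.homMk a.left (Over.w a)
  have h := memAt_conjFamily i a' γ
  have e : a' ≫ taut G = a := by
    ext1
    exact Category.comp_id _
  rw [e] at h
  rw [← h, memAt_iff_pt]
  rfl

end Groth.Agent.Redsub.H649.ConjPts
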