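import Mathlib.AlgebraicGeometry.Morphisms.FlatDescent
import Mathlib.AlgebraicGeometry.Morphisms.LocalFlatDescent
import Mathlib.AlgebraicGeometry.Morphisms.Smooth

/-!
# Properties of morphisms checked on a jointly surjective family of smooth morphisms to the target
-/

set_option autoImplicit false
universe u
open CategoryTheory AlgebraicGeometry Limits

namespace Groth.Agent.Redsub.H649.SmoothCover

variable {S : Scheme.{u}}

/-- A property which descends along flat coverings and is local can be checked smooth locally on the target. -/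
theorem of_smooth_cover {P : MorphismProperty Scheme.{u}} [IsZariskiLocalAtTarget P]
    [P.IsStableUnderBaseChange] [P.DescendsAlong (@Surjective ⊓ @Flat ⊓ @QuasiCompact)] {X : Scheme.{u}}
    (g : X ⟶ S)
    (h : ∀ s : S, ∃ (V : Scheme.{u}) (v : V ⟶ S), Flat v ∧ LocallyOfFinitePresentation v ∧ s ∈ Set.range v ∧
      P (pullback.snd g v)) : P g := by
  apply IsZariskiLocalAtTarget.of_forall_exists_morphismRestrict
  intro s
  obtain ⟨V, v, hv, hv', hs, hP⟩ := h s
  let O : S.Opens := ⟨Set.range v, v.isOpenMap.isOpen_range⟩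
  refine ⟨O, hs, ?_⟩
  let q : V ⟶ (O : Scheme.{u}) := IsOpenImmersion.lift O.ι v (by
    rw [Scheme.Opens.range_ι]
    exact subset_rfl)
  have hq : q ≫ O.ι = v := IsOpenImmersion.lift_fac _ _ _
  have hsq : IsPullback (𝟙 V) q v O.ι := IsPullback.of_horiz_isIso_mono ⟨by rw [hq, Category.id_comp]⟩
  have hqf : Flat q := MorphismProperty.of_isPullback hsq hv
  have hqp : LocallyOfFinitePresentation q := MorphismProperty.of_isPullback hsq hv'
  have hqs : Surjective q := ⟨by
    rintro ⟨_, x, rfl⟩
    refine ⟨x, ?_⟩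
    apply O.ι.isOpenEmbedding.injective
    rw [← Scheme.Hom.comp_apply, hq]
    rfl⟩
  apply MorphismProperty.of_pullback_snd_of_descendsAlong (P := P)
    (Q := @Surjective ⊓ @Flat ⊓ @LocallyOfFinitePresentation) (g := q) ⟨⟨hqs, hqf⟩, hqp⟩
  have h4 := (IsPullback.of_hasPullback (g ∣_ O) q).paste_horiz (isPullback_morphismRestrict g O).flip
  rw [hq] at h4
  exact (P.arrow_mk_iso_iff (Arrow.isoMk h4.isoPullback (Iso.refl _) (by
    simp))).mpr hP

end Groth.Agent.Redsub.H649.SmoothCover
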