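import Groth.Agent.Redsub.H649.ConjPts
import Groth.Agent.Redsub.H649.SmoothCover

/-!
# A criterion for the scheme `M` of conjugates of `B ⟶ G` to be the quotient of `G` by the normaliser of `B`
-/

set_option autoImplicit false
universe u
open CategoryTheory MonoidalCategory CartesianMonoidalCategory MonObj GrpObj AlgebraicGeometry Limits

namespace Groth.Agent.Redsub.H649.QuotCrit

open Groth.Agent.Redsub.H649.ConjPts

variable {S : Scheme.{u}} {G B N : Over S} [GrpObj G] [GrpObj B] [GrpObj N]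
  {i : B ⟶ G} {n : N ⟶ G} {M : Over S} {H : Over M.left} {h : H ⟶ Red.bc M.hom G}

omit [GrpObj B] in
lemma inC_iff_of_samePoints {q : G.left ⟶ M.left}
    (hq : RedSub.SamePoints G G.hom (RedSub.conjFamily i) M h q) {X : Over S} (a γ : X ⟶ G) :
    InC i a γ ↔ Pt h (a.left ≫ q) γ.left := by
  rw [← pt_conjFamily_iff]
  exact hq _ _ _

omit [GrpObj B] in
lemma samePoints_of_iff {S' : Scheme.{u}} {f : S' ⟶ S} (g₀ : Over.mk f ⟶ G) (m : S' ⟶ M.left)
    (hm : m ≫ M.hom = f)
    (h1 : ∀ (X : Over S) (a : X ⟶ Over.mk f) (γ : X ⟶ G), InC i (a ≫ g₀) γ ↔ Pt h (a.left ≫ m) γ.left) :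
    RedSub.SamePoints G f (fam i g₀) M h m := by
  rw [samePoints_iff]
  intro X y γ
  by_cases w : γ ≫ G.hom = y ≫ f
  · let X' : Over S := Over.mk (y ≫ f)
    let a : X' ⟶ Over.mk f := Over.homMk y
    let γ' : X' ⟶ G := Over.homMk γ w
    have h2 := h1 X' a γ'
    rw [← pt_fam_iff] at h2
    exact h2
  · constructor
    · intro h2
      exact (w h2.w).elim
    · intro h2
      refine (w ?_).elim
      rw [h2.w, Category.assoc, hm]

omit [GrpObj B] in
lemma samePoints_of_conjFamily {q : G.left ⟶ M.left} (hqM : q ≫ M.hom = G.hom)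
    (hq : RedSub.SamePoints G G.hom (RedSub.conjFamily i) M h q) {S' : Scheme.{u}} {f : S' ⟶ S}
    (g₀ : Over.mk f ⟶ G) : RedSub.SamePoints G f (fam i g₀) M h (g₀.left ≫ q) := by
  refine samePoints_of_iff g₀ _ ?_ fun X a γ => ?_
  · rw [Category.assoc, hqM]
    exact Over.w g₀
  · rw [inC_iff_of_samePoints hq]
    have e : (a ≫ g₀).left ≫ q = a.left ≫ g₀.left ≫ q := by
      rw [Over.comp_left, Category.assoc]
    rw [e]

omit [GrpObj B] in
lemma samePoints_conjFamily_of_taut {q : G.left ⟶ M.left}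
    (hq : RedSub.SamePoints G G.hom (fam i (taut G)) M h q) :
    RedSub.SamePoints G G.hom (RedSub.conjFamily i) M h q := by
  rw [samePoints_iff] at hq ⊢
  intro X y γ
  rw [← hq X y γ]
  by_cases w : γ ≫ G.hom = y ≫ G.hom
  · let X' : Over S := Over.mk (y ≫ G.hom)
    let a : X' ⟶ Over.mk G.hom := Over.homMk y
    let γ' : X' ⟶ G := Over.homMk γ w
    have h2 := memAt_conjFamily i a γ'
    have h3 := memAt_fam i (taut G) a γ'
    have h4 := h2.trans h3.symm
    rw [memAt_iff_pt, memAt_iff_pt] at h4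
    exact h4
  · exact ⟨fun h2 => (w h2.w).elim, fun h2 => (w h2.w).elim⟩

section norm

variable (hN : Red.IsNormalizerOf i n)
include hN

omit [GrpObj B] in
/-- Conjugates by points differing by the normaliser have the same points. -/
lemma inC_mul_iff {X : Over S} (a γ : X ⟶ G) (z : X ⟶ N) : InC i (a * (z ≫ n)) γ ↔ InC i a γ := by
  have h1 := (hN.2.2 X (z ≫ n)).1 ⟨z, rfl⟩ X (𝟙 X)
  simp only [Category.id_comp] at h1
  constructor
  · rintro ⟨x, hx⟩
    obtain ⟨⟨x', hx'⟩, -⟩ := h1 x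
    refine ⟨x', ?_⟩
    rw [← hx', hx]
    group
  · rintro ⟨x, hx⟩
    obtain ⟨-, ⟨x', hx'⟩⟩ := h1 x
    refine ⟨x', ?_⟩
    rw [← hx', hx]
    group

omit [GrpObj B] in
/-- Two points with the same conjugates differ by the normaliser. -/
lemma exists_of_inC_iff {X : Over S} (a b : X ⟶ G)
    (hab : ∀ (X' : Over S) (x : X' ⟶ X) (γ : X' ⟶ G), InC i (x ≫ a) γ ↔ InC i (x ≫ b) γ) :
    ∃ z : X ⟶ N, z ≫ n = a⁻¹ * b := by
  rw [hN.2.2]
  intro X' x t
  constructor
  · obtain ⟨t', ht'⟩ := (hab X' x ((x ≫ b) * (t ≫ i) * (x ≫ b)⁻¹)).2 ⟨t, by group⟩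
    refine ⟨t', ?_⟩
    rw [ht', MonObj.comp_mul, GrpObj.comp_inv]
    group
  · obtain ⟨t', ht'⟩ := (hab X' x ((x ≫ a) * (t ≫ i) * (x ≫ a)⁻¹)).1 ⟨t, by group⟩
    refine ⟨t', ?_⟩
    rw [ht', MonObj.comp_mul, GrpObj.comp_inv]
    group

end norm

/-- every conjugate of `i` over any base is classified by a unique point of `M` -/
def Classifies (i : B ⟶ G) (M : Over S) {H : Over M.left} (h : H ⟶ Red.bc M.hom G) : Prop :=
  ∀ (S' : Scheme.{u}) (f : S' ⟶ S) (g₀ : Over.mk f ⟶ G),
    ∃! g : S' ⟶ M.left, g ≫ M.hom = f ∧ RedSub.SamePoints G f (fam i g₀) M h g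

/-- `h` is conjugate to `i` locally for the smooth topology -/
def LocConj (i : B ⟶ G) (M : Over S) {H : Over M.left} (h : H ⟶ Red.bc M.hom G) : Prop :=
  ∀ m : M.left, ∃ (V : Scheme.{u}) (π : V ⟶ M.left), Flat π ∧ LocallyOfFinitePresentation π ∧
    m ∈ Set.range π ∧ ∃ g₀ : Over.mk (π ≫ M.hom) ⟶ G, RedSub.SamePoints G (π ≫ M.hom) (fam i g₀) M h π

omit [GrpObj B] in
/-- The classifying map of the family of conjugates. -/
theorem exists_classifying (hcl : Classifies i M h) :
    ∃ q : G ⟶ M, RedSub.SamePoints G G.hom (RedSub.conjFamily i) M h q.left := by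
  obtain ⟨q, ⟨hq1, hq2⟩, -⟩ := hcl G.left G.hom (taut G)
  exact ⟨Over.homMk q hq1, samePoints_conjFamily_of_taut hq2⟩

omit [GrpObj B] in
/-- The kernel pair of the classifying map. -/
theorem isPullback_of_classifying (hN : Red.IsNormalizerOf i n) (hcl : Classifies i M h) (q : G ⟶ M)
    (hq : RedSub.SamePoints G G.hom (RedSub.conjFamily i) M h q.left) :
    IsPullback (fst G N) ((G ◁ n) ≫ μ[G]) q q := by
  have hqM : q.left ≫ M.hom = G.hom := Over.w q
  have hmono : Mono n := hN.2.1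
  have hμ : (G ◁ n) ≫ μ[G] = fst G N * (snd G N ≫ n) := by
    rw [Hom.mul_def]
    congr 1
  have key : ∀ (X : Over S) (a : X ⟶ G) (z : X ⟶ N), (a * (z ≫ n)) ≫ q = a ≫ q := by
    intro X a z
    let a' : Over.mk X.hom ⟶ G := (Over.homMk (𝟙 _) (Category.id_comp _) : Over.mk X.hom ⟶ X) ≫ a
    have h1 : RedSub.SamePoints G X.hom (fam i a') M h (a ≫ q).left := by
      have := samePoints_of_conjFamily hqM hq a'
      have e : a'.left ≫ q.left = (a ≫ q).left := by
        change (𝟙 _ ≫ a.left) ≫ q.left = a.left ≫ q.left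
        rw [Category.id_comp]
      rwa [e] at this
    have h2 : RedSub.SamePoints G X.hom (fam i a') M h ((a * (z ≫ n)) ≫ q).left := by
      refine samePoints_of_iff a' _ (Over.w _) fun Y y γ => ?_
      let y' : Y ⟶ X := y ≫ (Over.homMk (𝟙 _) (Category.id_comp _) : Over.mk X.hom ⟶ X)
      have e1 : y ≫ a' = y' ≫ a := by simp only [a', y', Category.assoc]
      have e2 : y'.left = y.left := Category.comp_id _
      have e3 : y.left ≫ ((a * (z ≫ n)) ≫ q).left = (y' ≫ (a * (z ≫ n))).left ≫ q.left := by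
        rw [Over.comp_left, Over.comp_left, e2, Category.assoc]
      rw [e1, e3, ← inC_iff_of_samePoints hq, MonObj.comp_mul, ← Category.assoc, inC_mul_iff hN]
    have h3 := (hcl X.left X.hom a').unique ⟨Over.w _, h2⟩ ⟨Over.w _, h1⟩
    ext1
    exact h3
  refine ⟨⟨?_⟩, ⟨PullbackCone.IsLimit.mk _ (fun s => ?_) (fun s => ?_) (fun s => ?_) (fun s m h1 h2 => ?_)⟩⟩
  · rw [hμ, key]
  all_goals
    have h4 : ∀ (X' : Over S) (x : X' ⟶ s.pt) (γ : X' ⟶ G), InC i (x ≫ s.fst) γ ↔ InC i (x ≫ s.snd) γ := by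
      intro X' x γ
      rw [inC_iff_of_samePoints hq, inC_iff_of_samePoints hq, ← Over.comp_left, ← Over.comp_left,
        Category.assoc, Category.assoc, s.condition]
    have h5 := exists_of_inC_iff hN s.fst s.snd h4
  · exact lift s.fst h5.choose
  · exact lift_fst _ _
  · rw [hμ, MonObj.comp_mul, ← Category.assoc, lift_fst, lift_snd, h5.choose_spec]
    group
  · have h6 : m ≫ snd G N = h5.choose := by
      rw [← cancel_mono n, h5.choose_spec, Category.assoc]
      rw [hμ, MonObj.comp_mul, h1] at h2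
      rw [← h2]
      group
    ext1
    · rw [lift_fst, h1]
    · rw [lift_snd, h6]

omit [GrpObj B] in
/-- **Criterion**: if `M` classifies the conjugates of `i`, the universal family is locally conjugate to `i` for the
flat topology and the normaliser `N` of `i` is smooth, then `M` is the quotient `G/N`. -/
theorem exists_quotient (hN : Red.IsNormalizerOf i n) (hNs : Smooth N.hom) (hcl : Classifies i M h)
    (hcov : LocConj i M h) :
    ∃ q : G ⟶ M, RedSub.SamePoints G G.hom (RedSub.conjFamily i) M h q.left ∧ RedSub.IsQuotient n q ∧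
      Smooth q.left := by
  obtain ⟨q, hq⟩ := exists_classifying hcl
  have hqM : q.left ≫ M.hom = G.hom := Over.w q
  have hpb := isPullback_of_classifying hN hcl q hq
  have hcov' : ∀ m : M.left, ∃ (V : Scheme.{u}) (π : V ⟶ M.left), Flat π ∧ LocallyOfFinitePresentation π ∧
      m ∈ Set.range π ∧ ∃ g₀ : V ⟶ G.left, g₀ ≫ q.left = π := by
    intro m
    obtain ⟨V, π, h1, h2, h3, g₀, hg₀⟩ := hcov m
    refine ⟨V, π, h1, h2, h3, g₀.left, ?_⟩
    refine (hcl V (π ≫ M.hom) g₀).unique ⟨?_, samePoints_of_conjFamily hqM hq g₀⟩ ⟨rfl, hg₀⟩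
    rw [Category.assoc, hqM]
    exact Over.w g₀
  have hpb' : IsPullback (fst G N).left ((G ◁ n) ≫ μ[G]).left q.left q.left := hpb.map (Over.forget S)
  have hfst : Smooth (fst G N).left := by
    have h1 : IsPullback (fst G N).left (snd G N).left G.hom N.hom := by
      have := IsPullback.of_hasPullback G.hom N.hom
      exact this
    exact MorphismProperty.of_isPullback h1.flip hNs
  have hsm : Smooth q.left := by
    refine SmoothCover.of_smooth_cover (P := @Smooth) q.left fun m => ?_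
    obtain ⟨V, π, h1, h2, h3, g₀, hg₀⟩ := hcov' m
    refine ⟨V, π, h1, h2, h3, ?_⟩
    have h5 := (IsPullback.of_hasPullback g₀ (fst G N).left).paste_vert hpb'
    rw [hg₀] at h5
    have hp1 : Smooth (pullback.fst g₀ (fst G N).left) := inferInstance
    exact (MorphismProperty.arrow_mk_iso_iff (@Smooth) (Arrow.isoMk h5.flip.isoPullback (Iso.refl _) (by
      simp))).mp hp1
  have hsurj : Surjective q.left := ⟨fun m => by
    obtain ⟨V, π, h1, h2, ⟨v, hv⟩, g₀, hg₀⟩ := hcov' m
    refine ⟨g₀ v, ?_⟩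
    rw [← hv, ← hg₀, Scheme.Hom.comp_apply]⟩
  refine ⟨q, hq, ⟨hsurj, ?_, ?_, hpb⟩, hsm⟩
  · infer_instance
  · infer_instance

end Groth.Agent.Redsub.H649.QuotCrit
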